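import Cfsg.Agent.Lib.MinNormalNonabelian
import Cfsg.Agent.H940.Struct

/-!
# A simple subnormal subgroup of a group without abelian normal subgroups (helper175)

* `exists_factor` : a nontrivial finite group without abelian normal subgroups `≠ 1` has a nonabelian simple subgroup `S` with
  `i` conjugates, `|S| ^ i ∣ |H|`, `|H| ≤ i (|S| - 1) |C(w)|` for `1 ≠ w ∈ S`, and `S` is normal if `i = 1`;
* `frattini` : `|H| |N_S(R)| = |S| |N_H(R)|` for `S` normal and `R` a Sylow subgroup of prime order of `S`;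
* `cent_bot`, `card_le_aut` : the centralizer of a normal simple subgroup.
-/

set_option autoImplicit false

namespace Cfsg.Agent.H175.HNF

open Subgroup Cfsg.Agent.Lib.MinNormal Cfsg.Agent.Lib.MinNormalNonabelian
open scoped commutatorElement

universe u

variable {H : Type u} [Group H] [Finite H]

theorem exists_factor [Nontrivial H] (hF : ∀ A : Subgroup H, A.Normal → (∀ a ∈ A, ∀ b ∈ A, a * b = b * a) → A = ⊥) :
    ∃ (S : Subgroup H) (i : ℕ), IsSimpleGroup S ∧ (¬ ∀ a b : S, a * b = b * a) ∧ 0 < i ∧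
      Nat.card S ^ i ∣ Nat.card H ∧ (i = 1 → S.Normal) ∧
      ∀ w ∈ S, w ≠ 1 → Nat.card H ≤ i * (Nat.card S - 1) * Nat.card (centralizer ({w} : Set H)) := by
  classical
  obtain ⟨N, ⟨hN, hN1⟩, hmin0⟩ := Set.exists_min_image
    {N : Subgroup H | N.Normal ∧ N ≠ ⊥} (fun N => Nat.card N) (Set.toFinite _) ⟨⊤, inferInstance, top_ne_bot⟩
  have hmin : ∀ M : Subgroup H, M.Normal → M ≤ N → M = ⊥ ∨ M = N := by
    intro M hM hMN
    by_cases hM1 : M = ⊥
    · exact Or.inl hM1
    · exact Or.inr (eq_of_le_of_card_ge hMN (hmin0 M ⟨hM, hM1⟩))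
  have hna : ¬ ∀ x ∈ N, ∀ y ∈ N, Commute x y := fun h => hN1 (hF N hN fun a ha b hb => h a ha b hb)
  obtain ⟨⟨T, hT⟩, hind, hsup, hsimple, hcent, hconj⟩ := nonabelian_structure N hmin hna
  have hnorm : ∀ S ∈ minSet N, N ≤ normalizer (S : Set H) := fun S hS => hS.2.2.1
  have hle : ∀ S ∈ minSet N, S ≤ N := fun S hS => hS.1
  have hfin : Finite (minSet N) := inferInstance
  have hcard : ∀ S ∈ minSet N, Nat.card S = Nat.card T := by
    intro S hS
    obtain ⟨g, rfl⟩ := hconj T hT S hS
    exact Subgroup.card_map_of_injective (MulAut.conj g).injective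
  have hTn : Nontrivial T := (hsimple T hT).toNontrivial
  refine ⟨T, Nat.card (minSet N), hsimple T hT, ?_, ?_, ?_, ?_, ?_⟩
  · intro hab
    obtain ⟨t, ht⟩ := exists_ne (1 : T)
    apply ht
    apply Subtype.ext
    exact hcent T hT t t.2 fun s hs => congrArg Subtype.val (hab t ⟨s, hs⟩)
  · have : Nonempty (minSet N) := ⟨⟨T, hT⟩⟩
    exact Nat.card_pos
  · obtain ⟨e⟩ := mulEquiv_pi_of_iSupIndep (K := N) (fun S : minSet N => (S : Subgroup H))
      (fun S S' hne x y hx hy => commute_of_mem hind hnorm hle S.2 S'.2 (fun h => hne (Subtype.ext h)) hx hy)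
      ((sSupIndep_iff _).mp hind) (by rw [← sSup_eq_iSup']; exact hsup)
    have h1 : Nat.card N = Nat.card (∀ S : minSet N, (S : Subgroup H)) := Nat.card_congr e.toEquiv
    have : Fintype (minSet N) := Fintype.ofFinite _
    rw [Nat.card_pi, Finset.prod_congr rfl (fun (S : minSet N) _ => hcard S.1 S.2), Finset.prod_const, Finset.card_univ,
      ← Nat.card_eq_fintype_card] at h1
    rw [← h1]
    exact card_subgroup_dvd_card N
  · intro h1
    rw [Nat.card_eq_one_iff_unique] at h1
    obtain ⟨h2, -⟩ := h1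
    refine ⟨fun x hx g => ?_⟩
    have h3 : T.map (MulAut.conj g).toMonoidHom = T :=
      congrArg Subtype.val (h2.elim ⟨_, map_conj_mem_minSet hT g⟩ ⟨T, hT⟩)
    rw [← h3]
    exact ⟨x, hx, rfl⟩
  · intro w hw hw1
    have h1 : Nat.card (MulAction.orbit (ConjAct H) w) * Nat.card (centralizer ({w} : Set H)) = Nat.card H := by
      have h2 := Nat.card_congr (MulAction.orbitProdStabilizerEquivGroup (ConjAct H) w)
      rw [Nat.card_prod] at h2
      have h3 : Nat.card (MulAction.stabilizer (ConjAct H) w) = Nat.card (centralizer ({w} : Set H)) := by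
        rw [ConjAct.stabilizer_eq_centralizer]
        rfl
      rw [h3] at h2
      exact h2
    rw [← h1]
    apply Nat.mul_le_mul_right
    -- the map to `Σ S, S \ 1`
    let Y := Σ S : minSet N, {x : (S : Subgroup H) // x ≠ 1}
    have hY : Nat.card Y = Nat.card (minSet N) * (Nat.card T - 1) := by
      have : Fintype (minSet N) := Fintype.ofFinite _
      rw [Nat.card_sigma]
      have h4 : ∀ S : minSet N, Nat.card {x : (S : Subgroup H) // x ≠ 1} = Nat.card T - 1 := by
        intro S
        have : Fintype (S : Subgroup H) := Fintype.ofFinite _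
        rw [Nat.card_eq_fintype_card, Fintype.card_subtype_compl, Fintype.card_subtype_eq, ← hcard S S.2,
          ← Nat.card_eq_fintype_card]
      rw [Finset.sum_congr rfl (fun S _ => h4 S), Finset.sum_const, Finset.card_univ, smul_eq_mul,
        ← Nat.card_eq_fintype_card]
    rw [← hY]
    have hmem : ∀ y : MulAction.orbit (ConjAct H) w, ∃ S : minSet N, (y : H) ∈ (S : Subgroup H) ∧ (y : H) ≠ 1 := by
      rintro ⟨_, g, rfl⟩
      refine ⟨⟨_, map_conj_mem_minSet hT (ConjAct.ofConjAct g)⟩, ⟨w, hw, rfl⟩, ?_⟩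
      intro h5
      apply hw1
      have h6 : ConjAct.ofConjAct g * w * (ConjAct.ofConjAct g)⁻¹ = 1 := h5
      rw [mul_inv_eq_one] at h6
      exact mul_eq_left.1 h6
    choose F hF1 hF2 using hmem
    refine Nat.card_le_card_of_injective
      (fun y => (⟨F y, ⟨⟨(y : H), hF1 y⟩, fun h => hF2 y (congrArg Subtype.val h)⟩⟩ : Y)) ?_
    intro y z hyz
    have h7 := congrArg (fun p : Y => ((p.2 : (p.1 : Subgroup H)) : H)) hyz
    exact Subtype.ext h7

/-- the Frattini argument in numbers -/
theorem frattini {S : Subgroup H} (hS : S.Normal) {r : ℕ} (hr : r.Prime) (hrS : r ∣ Nat.card S)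
    (h2 : ¬ r ^ 2 ∣ Nat.card S) : ∃ R : Subgroup H, Nat.card R = r ∧ ∃ ν : ℕ, r ∣ ν ∧ ν ∣ Nat.card S ∧
      ν ∣ Nat.card (normalizer (R : Set H)) ∧ (Nat.card S / ν) % r = 1 % r ∧
      Nat.card H * ν = Nat.card S * Nat.card (normalizer (R : Set H)) := by
  have := Fact.mk hr
  let Q : Sylow r S := default
  have hQ : Nat.card Q = r := by
    have h1 := Q.card_eq_multiplicity
    have h3 : (Nat.card S).factorization r = 1 := by
      refine le_antisymm ?_ ((hr.dvd_iff_one_le_factorization Nat.card_pos.ne').1 hrS)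
      by_contra hlt
      push Not at hlt
      exact h2 ((pow_dvd_pow r hlt).trans (Nat.ordProj_dvd _ _))
    rw [h3, pow_one] at h1
    exact h1
  set R : Subgroup H := (Q : Subgroup S).map S.subtype with hR
  have hRc : Nat.card R = r := by
    rw [hR, card_map_of_injective S.subtype_injective]; exact hQ
  have hfr : normalizer (R : Set H) ⊔ S = ⊤ := Sylow.normalizer_sup_eq_top Q
  set N := normalizer (R : Set H) with hN
  have hcard : Nat.card H * Nat.card ↥(S ⊓ N) = Nat.card S * Nat.card N := by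
    rw [← H940.Eng.card_sup_mul_card_inf S N, sup_comm, hfr, card_top]
  have hRS : R ≤ S := map_subtype_le _
  have hMN : Nat.card ↥(S ⊓ N) = Nat.card (normalizer ((Q : Subgroup S) : Set S)) := by
    have h1 : (normalizer ((Q : Subgroup S) : Set S)).map S.subtype = S ⊓ N := by
      ext x
      rw [mem_map, mem_inf]
      constructor
      · rintro ⟨a, ha, rfl⟩
        refine ⟨a.2, ?_⟩
        rw [hN, mem_normalizer_iff]
        intro z
        constructor
        · rintro ⟨w, hw, rfl⟩
          exact ⟨_, (mem_normalizer_iff.1 ha w).1 hw, rfl⟩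
        · rintro ⟨w, hw, hw'⟩
          refine ⟨a⁻¹ * w * a, (mem_normalizer_iff.1 ha _).2 (by
            have h6 : a * (a⁻¹ * w * a) * a⁻¹ = w := by group
            rw [h6]
            exact hw), ?_⟩
          have h7 : (w : H) = (a : H) * z * (a : H)⁻¹ := hw'
          show ((a⁻¹ * w * a : S) : H) = z
          push_cast
          rw [h7]
          group
      · rintro ⟨hxM, hxN⟩
        refine ⟨⟨x, hxM⟩, ?_, rfl⟩
        have hmem : ∀ z : S, z ∈ (Q : Subgroup S) ↔ (z : H) ∈ R := by
          intro z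
          constructor
          · intro hz
            exact ⟨z, hz, rfl⟩
          · rintro ⟨w, hw, hw'⟩
            have h8 : w = z := Subtype.ext hw'
            exact h8 ▸ hw
        rw [mem_normalizer_iff]
        intro z
        rw [hmem, hmem]
        exact mem_normalizer_iff.1 hxN (z : H)
    rw [← h1, card_map_of_injective S.subtype_injective]
  refine ⟨R, hRc, Nat.card ↥(S ⊓ N), ?_, card_dvd_of_le inf_le_left, card_dvd_of_le inf_le_right, ?_, hcard⟩
  · rw [← hRc]
    exact card_dvd_of_le (le_inf hRS le_normalizer)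
  · have h3 : Nat.card (Sylow r S) ≡ 1 [MOD r] := card_sylow_modEq_one r S
    rw [Sylow.card_eq_index_normalizer Q] at h3
    have h4 : Nat.card S / Nat.card ↥(S ⊓ N) = (normalizer ((Q : Subgroup S) : Set S)).index := by
      rw [hMN]
      apply Nat.div_eq_of_eq_mul_right Nat.card_pos
      exact (card_mul_index _).symm
    rw [h4]
    exact h3

/-- a normal subgroup of odd order is trivial -/
theorem odd_bot (hodd : ∀ (K : Type u) [Group K] [Finite K], Odd (Nat.card K) → Group.IsSolvable K)
    (hF : ∀ A : Subgroup H, A.Normal → (∀ a ∈ A, ∀ b ∈ A, a * b = b * a) → A = ⊥) {C : Subgroup H} (hC : C.Normal)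
    (h2 : ¬ 2 ∣ Nat.card C) : C = ⊥ := by
  by_contra hne
  obtain ⟨A, ⟨hA, hA1, hAC⟩, hmin⟩ := Set.exists_min_image
    {A : Subgroup H | A.Normal ∧ A ≠ ⊥ ∧ A ≤ C} (fun A => Nat.card A) (Set.toFinite _) ⟨C, hC, hne, le_rfl⟩
  have hAo : Odd (Nat.card A) := by
    rw [← Nat.not_even_iff_odd, even_iff_two_dvd]
    exact fun h => h2 (h.trans (card_dvd_of_le hAC))
  have hs := hodd A hAo
  have hn : ((commutator A).map A.subtype).Normal := inferInstance
  have hab : ∀ a ∈ A, ∀ b ∈ A, a * b = b * a := by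
    by_cases h : (commutator A).map A.subtype = ⊥
    · intro x hx y hy
      have h2 : (⁅(⟨x, hx⟩ : A), (⟨y, hy⟩ : A)⁆ : A) ∈ commutator A := commutator_mem_commutator (mem_top _) (mem_top _)
      have h3 : ((⁅(⟨x, hx⟩ : A), (⟨y, hy⟩ : A)⁆ : A) : H) ∈ (commutator A).map A.subtype := ⟨_, h2, rfl⟩
      rw [h, mem_bot] at h3
      have h4 : x * y * x⁻¹ * y⁻¹ = 1 := h3
      have h5 : x * y * x⁻¹ = y := mul_inv_eq_one.1 h4
      exact mul_inv_eq_iff_eq_mul.1 h5
    · exfalso
      have h3 : (commutator A).map A.subtype = A :=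
        eq_of_le_of_card_ge (map_subtype_le _) (hmin _ ⟨hn, h, (map_subtype_le _).trans hAC⟩)
      have hnt : Nontrivial A := (Subgroup.nontrivial_iff_ne_bot A).2 hA1
      have h4 : commutator A < ⊤ := Group.IsSolvable.commutator_lt_top_of_nontrivial A
      apply h4.ne
      apply map_injective A.subtype_injective
      rw [h3, ← MonoidHom.range_eq_map, range_subtype]
  exact hA1 (hF A hA hab)

/-- the centralizer of a normal subgroup `S`, if `|S| ∤ |C(x)|` for the involutions `x` -/
theorem cent_bot (hodd : ∀ (K : Type u) [Group K] [Finite K], Odd (Nat.card K) → Group.IsSolvable K)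
    (hF : ∀ A : Subgroup H, A.Normal → (∀ a ∈ A, ∀ b ∈ A, a * b = b * a) → A = ⊥) {S : Subgroup H}
    (hS : S.Normal) (hx : ∀ x : H, orderOf x = 2 → ¬ Nat.card S ∣ Nat.card (centralizer ({x} : Set H))) :
    centralizer (S : Set H) = ⊥ := by
  have hCn : (centralizer (S : Set H)).Normal := inferInstance
  refine odd_bot hodd hF hCn fun hd => ?_
  have := Fact.mk Nat.prime_two
  obtain ⟨x, hxo⟩ := exists_prime_orderOf_dvd_card' 2 hd
  have hxo' : orderOf (x : H) = 2 := by rw [Subgroup.orderOf_coe, hxo]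
  refine hx (x : H) hxo' (card_dvd_of_le ?_)
  intro s hs
  rw [mem_centralizer_singleton_iff]
  exact (mem_centralizer_iff.1 x.2 s hs)

theorem card_dvd_aut {S : Subgroup H} [hS : S.Normal] (hC : centralizer (S : Set H) = ⊥) :
    Nat.card H ∣ Nat.card (MulAut S) := by
  have hinj : Function.Injective (MulAut.conjNormal : H →* MulAut S) := by
    rw [injective_iff_map_eq_one]
    intro g hg
    have h1 : g ∈ centralizer (S : Set H) := by
      rw [Subgroup.mem_centralizer_iff]
      intro x hx
      have h2 : (MulAut.conjNormal g : MulAut S) ⟨x, hx⟩ = ⟨x, hx⟩ := by rw [hg]; rfl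
      have h3 : g * x * g⁻¹ = x := by
        have := congrArg Subtype.val h2
        rwa [MulAut.conjNormal_apply] at this
      exact (mul_inv_eq_iff_eq_mul.1 h3).symm
    rwa [hC, Subgroup.mem_bot] at h1
  exact Subgroup.card_dvd_of_injective _ hinj

end Cfsg.Agent.H175.HNF
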