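import Cfsg.Agent.H175.HNF.Fac
import Cfsg.Agent.H388.HNF.Defs
import Cfsg.Agent.H940.EngData
import Cfsg.Agent.H251.Der.AutFacts
import Cfsg.Agent.H651.HNF.Raw
import Cfsg.Agent.H946.HNF.O8
import Cfsg.Agent.SmallSimple.SylowPrimeCount
import Cfsg.Agent.S0205

/-!
# S4908, row FROB of HN: the subgroups without abelian normal subgroups (helper175)

`nonab` : `T ≤ HN` with `19 ∤ |T|`, an element of order 9 and without abelian normal subgroups satisfies `Bd T`.
-/

set_option autoImplicit false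

namespace Cfsg.Agent.H175.HNF

open Cfsg Subgroup Cfsg.Agent.H940.Eng Cfsg.Agent.H940.Eng.D Cfsg.Agent.H651.HNF Cfsg.Agent.H388.HNF

/-! ### numbers -/

theorem chk11 : ∀ s ∈ o_hn, s % 11 = 0 → s % 19 ≠ 0 → ∀ ν ∈ divsT [(2, 2), (5, 1), (11, 1)], ν % 11 = 0 → s % ν = 0 →
    s / ν % 11 = 1 → s * 220 ≤ ν * 1020000000 ∨ (s % 7 = 0 ∧ s * 220 ≤ ν * 3660000000) := by decide +kernel

theorem chk7 : ∀ s ∈ o_hn, s % 7 = 0 → s % 11 ≠ 0 → s % 19 ≠ 0 → s ≠ 174182400 →
    ∀ ν ∈ divsT [(2, 3), (3, 2), (5, 1), (7, 1)], ν % 7 = 0 → s % ν = 0 →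
    s / ν % 7 = 1 → s * 2520 ≤ ν * 679000000 := by decide +kernel

theorem small : ∀ s ∈ o_hn, s % 7 ≠ 0 → s % 11 ≠ 0 → s % 19 ≠ 0 → s = 60 ∨ s = 360 ∨ s = 25920 := by decide +kernel

theorem three_dvd : ∀ s ∈ o_hn, s % 3 = 0 := by decide +kernel

section
variable (R : Raw Spor.HN) {T : Subgroup Spor.HN}

/-! ### transfer to `T` -/

theorem card_cent_sub [Finite Spor.HN] (w : T) :
    Nat.card (centralizer ({w} : Set T)) ∣ Nat.card (centralizer ({(w : Spor.HN)} : Set Spor.HN)) := by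
  have h3 : (centralizer ({w} : Set T)).map T.subtype ≤ centralizer ({(w : Spor.HN)} : Set Spor.HN) := by
    rintro _ ⟨a, ha, rfl⟩
    rw [mem_centralizer_singleton_iff]
    exact congrArg Subtype.val (mem_centralizer_singleton_iff.1 ha)
  rw [← card_map_of_injective T.subtype_injective]
  exact card_dvd_of_le h3

theorem card_norm_sub [Finite Spor.HN] (P : Subgroup T) :
    Nat.card (normalizer (P : Set T)) ∣ Nat.card (normalizer ((P.map T.subtype : Subgroup Spor.HN) : Set Spor.HN)) := by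
  have h3 : (normalizer (P : Set T)).map T.subtype ≤ normalizer ((P.map T.subtype : Subgroup Spor.HN) : Set Spor.HN) := by
    rintro _ ⟨a, ha, rfl⟩
    rw [mem_normalizer_iff]
    intro z
    constructor
    · rintro ⟨w, hw, rfl⟩
      exact ⟨_, (mem_normalizer_iff.1 ha w).1 hw, rfl⟩
    · rintro ⟨w, hw, hw'⟩
      have h5 := (mem_normalizer_iff.1 ha (a⁻¹ * w * a)).2 (by
        have h6 : a * (a⁻¹ * w * a) * a⁻¹ = w := by group
        rw [h6]
        exact hw)
      refine ⟨_, h5, ?_⟩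
      have h7 : (w : Spor.HN) = (a : Spor.HN) * z * (a : Spor.HN)⁻¹ := hw'
      show ((a⁻¹ * w * a : T) : Spor.HN) = z
      push_cast
      rw [h7]
      group
  rw [← card_map_of_injective T.subtype_injective]
  exact card_dvd_of_le h3

include R

theorem fin : Finite Spor.HN := Nat.finite_of_card_ne_zero (by rw [R.card]; norm_num)

/-- the normalizer of a subgroup of prime order -/
theorem card_norm {r c : ℕ} (hr : r.Prime) (hc : ∀ g : Spor.HN, orderOf g = r → cn g = c) {P : Subgroup T}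
    (hP : Nat.card P = r) : Nat.card (normalizer (P : Set T)) ∣ (r - 1) * c := by
  have hfin := fin R
  have := Fact.mk hr
  refine (card_norm_sub P).trans ?_
  have hP' : Nat.card ↥(P.map T.subtype) = r := by rw [card_map_of_injective T.subtype_injective, hP]
  refine (SmallSimple.SylowPrimeCount.card_normalizer_dvd hr hP'
    (SmallSimple.SylowPrimeCount.centralizer_le_normalizer' _)).trans ?_
  obtain ⟨x, hx⟩ := exists_prime_orderOf_dvd_card' r (dvd_of_eq hP'.symm)
  have h1 : orderOf (x : Spor.HN) = r := by rw [Subgroup.orderOf_coe, hx]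
  have h2 : centralizer ((P.map T.subtype : Subgroup Spor.HN) : Set Spor.HN) ≤ centralizer ({(x : Spor.HN)} : Set Spor.HN) := by
    apply centralizer_le
    rw [Set.singleton_subset_iff]
    exact x.2
  refine Nat.mul_dvd_mul_left _ ?_
  rw [← hc _ h1]
  exact card_dvd_of_le h2

/-- elements of order 3 -/
theorem cent_three {w : T} (hw : orderOf w = 3) : Nat.card (centralizer ({w} : Set T)) ≤ 544320 ∧
    (¬ 7 ∣ Nat.card T → Nat.card (centralizer ({w} : Set T)) ≤ 77760) := by
  have hfin := fin R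
  have h1 := card_cent_sub w
  have hw' : orderOf (w : Spor.HN) = 3 := by rw [Subgroup.orderOf_coe, hw]
  have h2 : Nat.card (centralizer ({(w : Spor.HN)} : Set Spor.HN)) = 544320 ∨
    Nat.card (centralizer ({(w : Spor.HN)} : Set Spor.HN)) = 29160 := R.r3 _ hw'
  rcases h2 with h2 | h2
  · rw [h2] at h1
    refine ⟨Nat.le_of_dvd (by norm_num) h1, fun h7 => ?_⟩
    have h3 : Nat.Coprime (Nat.card (centralizer ({w} : Set T))) 7 := by
      rw [Nat.coprime_comm, Nat.Prime.coprime_iff_not_dvd (by norm_num)]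
      exact fun h => h7 (h.trans (card_subgroup_dvd_card _))
    have h4 : Nat.card (centralizer ({w} : Set T)) ∣ 77760 := by
      apply h3.dvd_of_dvd_mul_left
      exact h1
    exact Nat.le_of_dvd (by norm_num) h4
  · rw [h2] at h1
    have h3 := Nat.le_of_dvd (by norm_num) h1
    exact ⟨h3.trans (by norm_num), fun _ => h3.trans (by norm_num)⟩

/-- involutions -/
theorem cent_two {w : T} (hw : orderOf w = 2) : ¬ 25920 ∣ Nat.card (centralizer ({w} : Set T)) := by
  have hfin := fin R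
  intro h
  have h1 := h.trans (card_cent_sub w)
  have hw' : orderOf (w : Spor.HN) = 2 := by rw [Subgroup.orderOf_coe, hw]
  have h2 : Nat.card (centralizer ({(w : Spor.HN)} : Set Spor.HN)) = 177408000 ∨
    Nat.card (centralizer ({(w : Spor.HN)} : Set Spor.HN)) = 3686400 := R.r2 _ hw'
  rcases h2 with h2 | h2
  · rw [h2] at h1
    revert h1
    norm_num
  · rw [h2] at h1
    revert h1
    norm_num

/-- **the nonabelian case** -/
theorem nonab (B : Base) (h45 : ∀ b x : Spor.HN, orderOf b = 5 → orderOf x = 9 → b * x ≠ x * b) {q : Spor.HN} (hq : q ∈ T)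
    (h9 : orderOf q = 9) (h19 : ¬ 19 ∣ Nat.card T) (hF : Fit T) : Bd T := by
  have hfin := fin R
  have hnt : Nontrivial T := by
    refine ⟨⟨⟨q, hq⟩, 1, fun h => ?_⟩⟩
    have h1 : q = 1 := congrArg Subtype.val h
    rw [h1, orderOf_one] at h9
    norm_num at h9
  have hF' : ∀ A : Subgroup T, A.Normal → (∀ a ∈ A, ∀ b ∈ A, a * b = b * a) → A = ⊥ := by
    intro A hA hab
    have h1 := hF (A.map T.subtype) (map_subtype_le _) (by
      rintro g hg _ ⟨a, ha, rfl⟩
      exact ⟨⟨g, hg⟩ * a * ⟨g, hg⟩⁻¹, hA.conj_mem a ha _, rfl⟩) (by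
      rintro _ ⟨a, ha, rfl⟩ _ ⟨b, hb, rfl⟩
      exact congrArg Subtype.val (hab a ha b hb))
    exact (map_eq_bot_iff_of_injective A T.subtype_injective).1 h1
  obtain ⟨S, i, hs, hna, hi, hdvd, hnor, hcl⟩ := exists_factor hF'
  have hTn : Nat.card T ∣ 273030912000000 := by rw [← R.card]; exact card_subgroup_dvd_card T
  have hSn : Nat.card S ∣ n_hn := (card_subgroup_dvd_card S).trans hTn
  have hso : Nat.card S ∈ o_hn := ords_hn B S hs hna hSn
  have hST : Nat.card S ∣ Nat.card T := card_subgroup_dvd_card S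
  have hs0 : 0 < Nat.card S := Nat.card_pos
  have hs19 : Nat.card S % 19 ≠ 0 := fun h => h19 ((Nat.dvd_of_mod_eq_zero h).trans hST)
  have hin : ∀ k : ℕ, k ≤ i → Nat.card S ^ k ∣ 273030912000000 := fun k hk =>
    (pow_dvd_pow _ hk).trans (hdvd.trans hTn)
  have hfr : ∀ r : ℕ, r.Prime → r ∣ Nat.card S → ¬ r ^ 2 ∣ 273030912000000 → ∀ c : ℕ,
      (∀ g : Spor.HN, orderOf g = r → cn g = c) → 0 < c → ∃ ν : ℕ, ν ∣ (r - 1) * c ∧ ν % r = 0 ∧ Nat.card S % ν = 0 ∧
        Nat.card S / ν % r = 1 % r ∧ Nat.card T * ν ≤ Nat.card S * ((r - 1) * c) := by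
    intro r hr hrS hr2 c hc hc0
    have hi1 : i = 1 := by
      by_contra hne
      exact hr2 ((pow_dvd_pow_of_dvd hrS 2).trans (hin 2 (by omega)))
    obtain ⟨P, hP, ν, h1, h2, h3, h4, h5⟩ := frattini (hnor hi1) hr hrS
      (fun h => hr2 ((h.trans (card_subgroup_dvd_card S)).trans hTn))
    have h6 := card_norm R hr hc hP
    refine ⟨ν, h3.trans h6, Nat.mod_eq_zero_of_dvd h1, Nat.mod_eq_zero_of_dvd h2, h4, ?_⟩
    rw [h5]
    exact Nat.mul_le_mul_left _ (Nat.le_of_dvd (Nat.mul_pos (Nat.sub_pos_of_lt hr.one_lt) hc0) h6)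
  by_cases h11 : 11 ∣ Nat.card S
  · obtain ⟨ν, h1, h2, h3, h4, h5⟩ := hfr 11 (by norm_num) h11 (by norm_num) 22 R.r11 (by norm_num)
    have hν0 : 0 < ν := Nat.pos_of_dvd_of_pos h1 (by norm_num)
    have h6 := chk11 _ hso (Nat.mod_eq_zero_of_dvd h11) hs19 ν (mem_divsT (by decide) (by
      refine h1.trans (dvd_of_eq ?_)
      decide)) h2 h3 h4
    rcases h6 with h6 | ⟨h7, h6⟩
    · refine Or.inr (Or.inr (Or.inr (Or.inl ⟨h11.trans hST, ?_⟩)))
      refine Nat.le_of_mul_le_mul_right ?_ hν0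
      rw [mul_comm 1020000000]
      exact h5.trans h6
    · refine Or.inr (Or.inr (Or.inr (Or.inr (Or.inl ⟨?_, ?_⟩))))
      · exact (Nat.Coprime.mul_dvd_of_dvd_of_dvd (by norm_num) (Nat.dvd_of_mod_eq_zero h7) h11).trans hST
      · refine Nat.le_of_mul_le_mul_right ?_ hν0
        rw [mul_comm 3660000000]
        exact h5.trans h6
  have hs11 : Nat.card S % 11 ≠ 0 := fun h => h11 (Nat.dvd_of_mod_eq_zero h)
  by_cases h7 : 7 ∣ Nat.card S
  · by_cases h8 : Nat.card S = 174182400
    · have hi1 : i = 1 := by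
        by_contra hne
        have h9 := hin 2 (by omega)
        rw [h8] at h9
        revert h9
        norm_num
      have hSn := hnor hi1
      have hcS : Nat.card (S.map T.subtype) = Nat.card S := card_map_of_injective T.subtype_injective
      refine Cfsg.Agent.H946.HNF.bd_o8_of B.table B.known R h45 (S := S.map T.subtype) (map_subtype_le _) ?_ ?_ (hcS.trans h8)
      · rintro g hg _ ⟨a, ha, rfl⟩
        exact ⟨⟨g, hg⟩ * a * ⟨g, hg⟩⁻¹, hSn.conj_mem a ha _, rfl⟩
      · exact (S.equivMapOfInjective T.subtype T.subtype_injective).symm.isSimpleGroup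
    · obtain ⟨ν, h1, h2, h3, h4, h5⟩ := hfr 7 (by norm_num) h7 (by norm_num) 420 R.r7 (by norm_num)
      have hν0 : 0 < ν := Nat.pos_of_dvd_of_pos h1 (by norm_num)
      have h6 := chk7 _ hso (Nat.mod_eq_zero_of_dvd h7) hs11 hs19 h8 ν (mem_divsT (by decide) (by
        refine h1.trans (dvd_of_eq ?_)
        decide)) h2 h3 h4
      refine Or.inr (Or.inl ⟨h7.trans hST, ?_⟩)
      refine Nat.le_of_mul_le_mul_right ?_ hν0
      rw [mul_comm 679000000]
      exact h5.trans h6
  have hs7 : Nat.card S % 7 ≠ 0 := fun h => h7 (Nat.dvd_of_mod_eq_zero h)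
  have h3 : 3 ∣ Nat.card S := Nat.dvd_of_mod_eq_zero (three_dvd _ hso)
  have := Fact.mk Nat.prime_three
  obtain ⟨w, hw⟩ := exists_prime_orderOf_dvd_card' 3 h3
  have hw3 : orderOf (w : T) = 3 := by rw [Subgroup.orderOf_coe, hw]
  have hw1 : (w : T) ≠ 1 := by
    intro h
    rw [h, orderOf_one] at hw3
    norm_num at hw3
  have hb := hcl w w.2 hw1
  obtain ⟨c1, c2⟩ := cent_three R hw3
  rcases small _ hso hs7 hs11 hs19 with h | h | h
  · -- 60
    have hi6 : i ≤ 6 := by
      by_contra hlt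
      have h9 := hin 7 (by omega)
      rw [h] at h9
      revert h9
      norm_num
    rw [h] at hb
    by_cases h7T : 7 ∣ Nat.card T
    · refine Or.inr (Or.inl ⟨h7T, hb.trans ?_⟩)
      calc i * (60 - 1) * Nat.card (centralizer ({(w : T)} : Set T)) ≤ 6 * (60 - 1) * 544320 :=
            Nat.mul_le_mul (Nat.mul_le_mul_right _ hi6) c1
        _ ≤ 679000000 := by norm_num
    · refine Or.inl (hb.trans ?_)
      calc i * (60 - 1) * Nat.card (centralizer ({(w : T)} : Set T)) ≤ 6 * (60 - 1) * 77760 :=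
            Nat.mul_le_mul (Nat.mul_le_mul_right _ hi6) (c2 h7T)
        _ ≤ 103900000 := by norm_num
  · -- 360
    have hi3 : i ≤ 3 := by
      by_contra hlt
      have h9 := hin 4 (by omega)
      rw [h] at h9
      revert h9
      norm_num
    rw [h] at hb
    by_cases h7T : 7 ∣ Nat.card T
    · refine Or.inr (Or.inl ⟨h7T, hb.trans ?_⟩)
      calc i * (360 - 1) * Nat.card (centralizer ({(w : T)} : Set T)) ≤ 3 * (360 - 1) * 544320 :=
            Nat.mul_le_mul (Nat.mul_le_mul_right _ hi3) c1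
        _ ≤ 679000000 := by norm_num
    · refine Or.inl (hb.trans ?_)
      calc i * (360 - 1) * Nat.card (centralizer ({(w : T)} : Set T)) ≤ 3 * (360 - 1) * 77760 :=
            Nat.mul_le_mul (Nat.mul_le_mul_right _ hi3) (c2 h7T)
        _ ≤ 103900000 := by norm_num
  · -- 25920
    have hi1 : i = 1 := by
      by_contra hne
      have h9 := hin 2 (by omega)
      rw [h] at h9
      revert h9
      norm_num
    have hSn := hnor hi1
    have hC := cent_bot (fun K _ _ hK => Cfsg.Agent.S0205.result hK) hF' hSn (fun x hx => by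
      rw [h]
      exact cent_two R hx)
    have h10 := card_dvd_aut hC
    rw [Cfsg.Agent.H251.Der.aut_25920 B.table (fun X _ _ hX => B.known X hX) hna h] at h10
    exact Or.inl ((Nat.le_of_dvd (by norm_num) h10).trans (by norm_num))

end

end Cfsg.Agent.H175.HNF
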